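import Groth.Agent.QcInjLib.Tilde
import Groth.Agent.TildeD.Exact
import Groth.Agent.QCohLib.Push
import Groth.Agent.DCohLib.QCohAbelian
import Groth.Agent.DCohLib.QcFlasque

/-!
# Quasi-coherent modules embed into flasque quasi-coherent modules
-/

set_option autoImplicit false
set_option linter.style.haveILetI false
set_option backward.isDefEq.respectTransparency false

universe u

open CategoryTheory CategoryTheory.Limits AlgebraicGeometry TopologicalSpace Opposite ZeroObject
open Groth.Agent.PullbackMod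

namespace Groth.Agent.QcInjLib

variable {X : Scheme.{u}}

/-- Flasque modules. -/
def Flasque (M : X.Modules) : Prop :=
  ∀ ⦃V W : X.Opens⦄ (h : V ≤ W), Function.Surjective (M.presheaf.map (homOfLE h).op)

theorem app_injective {M N : X.Modules} (f : M ⟶ N) [Mono f] (W : X.Opens) :
    Function.Injective (f.app W) := by
  have h : Mono f.mapPresheaf := inferInstanceAs (Mono ((Scheme.Modules.toPresheaf X).map f))
  rw [NatTrans.mono_iff_mono_app] at h
  exact (AddCommGrpCat.mono_iff_injective _).1 (h (op W))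

theorem mono_of_app_injective {M N : X.Modules} (f : M ⟶ N)
    (h : ∀ W : X.Opens, Function.Injective (f.app W)) : Mono f := by
  haveI : Mono f.mapPresheaf := by
    rw [NatTrans.mono_iff_mono_app]
    exact fun W => (AddCommGrpCat.mono_iff_injective _).2 (h W.unop)
  exact (Scheme.Modules.toPresheaf X).mono_of_mono_map (f := f) this

/-- The piece attached to an affine open. -/
theorem exists_piece [IsLocallyNoetherian X] (J : X.Modules) [Coh.IsQCoh J] (U : X.affineOpens)
    [QuasiCompact U.2.fromSpec] :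
    ∃ (P : X.Modules) (g : J ⟶ P), Coh.IsQCoh P ∧ Flasque P ∧
      ∀ (W : X.Opens) (s : Γ(J, W)), g.app W s = 0 →
        J.presheaf.map (homOfLE (inf_le_left : W ⊓ (U : X.Opens) ≤ W)).op s = 0 := by
  haveI : IsNoetherianRing Γ(X, U) := IsLocallyNoetherian.component_noetherian U
  let j := U.2.fromSpec
  let N := (Scheme.Modules.restrictFunctor j).obj J
  haveI : Coh.IsQCoh N := inferInstance
  let M₀ := (moduleSpecΓFunctor (R := Γ(X, U))).obj N
  obtain ⟨p⟩ := EnoughInjectives.presentation M₀
  haveI := p.injective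
  haveI : Module.Injective Γ(X, U) p.J := Module.injective_module_of_injective_object _ _
  haveI := Groth.Agent.TildeD.mono_tilde_map p.f
  haveI := Scheme.Modules.isIso_fromTildeΓ_of_isQuasicoherent (R := Γ(X, U)) N
  let f₀ : N ⟶ tilde p.J := inv N.fromTildeΓ ≫ tilde.map p.f
  haveI : Mono f₀ := mono_comp _ _
  refine ⟨(Scheme.Modules.pushforward j).obj (tilde p.J),
    (Scheme.Modules.restrictAdjunction j).unit.app J ≫ (Scheme.Modules.pushforward j).map f₀,
    Groth.Agent.QCohLib.isQCoh_pushforward _ j, fun V W h => ?_, fun W s hs => ?_⟩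
  · exact surjective_res p.J ((Opens.map j.base).map (homOfLE h)).le
  · have h0 : f₀.app (j ⁻¹ᵁ W) (J.presheaf.map (homOfLE (j.image_preimage_le W)).op s) = 0 := hs
    have h1 : J.presheaf.map (homOfLE (j.image_preimage_le W)).op s = 0 :=
      app_injective f₀ _ (h0.trans (map_zero _).symm)
    have hle : W ⊓ (U : X.Opens) ≤ j ''ᵁ j ⁻¹ᵁ W := by
      rw [Scheme.Hom.image_preimage_eq_opensRange_inf, U.2.opensRange_fromSpec, inf_comm]
    have h2 := congrArg (J.presheaf.map (homOfLE hle).op) h1
    rw [map_zero, DCohLib.res_res J _ _ (homOfLE inf_le_left)] at h2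
    exact h2

theorem exists_flasque_embedding [IsNoetherian X] (J : X.Modules) [Coh.IsQCoh J] :
    ∃ (P : X.Modules) (g : J ⟶ P), Coh.IsQCoh P ∧ Flasque P ∧ Mono g := by
  classical
  have key : ∀ l : List X.affineOpens, ∃ (P : X.Modules) (g : J ⟶ P), Coh.IsQCoh P ∧ Flasque P ∧
      ∀ U ∈ l, ∀ (W : X.Opens) (s : Γ(J, W)), g.app W s = 0 →
        J.presheaf.map (homOfLE (inf_le_left : W ⊓ (U : X.Opens) ≤ W)).op s = 0 := by
    intro l
    induction l with
    | nil =>
      exact ⟨0, 0, DCohLib.isQCoh_of_isZero' (isZero_zero _), fun V W h => fun s =>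
        ⟨0, (DCohLib.app_natural (0 : (0 : X.Modules) ⟶ 0) h 0).symm.trans
          (congr(($((isZero_zero X.Modules).eq_of_src (0 : (0 : X.Modules) ⟶ 0) (𝟙 _))).app V s))⟩,
        by simp⟩
    | cons U l ih =>
      obtain ⟨P, g, hP, hPf, hg⟩ := ih
      obtain ⟨Q, k, hQ, hQf, hk⟩ := exists_piece J U
      refine ⟨P ⊞ Q, biprod.lift g k, DCohLib.isQCoh_biprod' hP hQ, fun V W h => ?_, ?_⟩
      · intro s
        exact DCohLib.qcFlasque_biprod (fun _ _ h' _ _ => hPf h') (fun _ _ h' _ _ => hQf h') h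
          (NoetherianSpace.isCompact _) (NoetherianSpace.isCompact _) s
      · intro U' hU' W s hs
        rcases List.mem_cons.1 hU' with rfl | hU'
        · refine hk W s ((congr(($(biprod.lift_snd g k)).app W s)).symm.trans ?_)
          exact (congrArg ((biprod.snd : P ⊞ Q ⟶ Q).app W) hs).trans (map_zero _)
        · refine hg U' hU' W s ((congr(($(biprod.lift_fst g k)).app W s)).symm.trans ?_)
          exact (congrArg ((biprod.fst : P ⊞ Q ⟶ P).app W) hs).trans (map_zero _)
  obtain ⟨t, ht⟩ := (isCompact_univ (X := X)).elim_finite_subcover (fun U : X.affineOpens => ((U : X.Opens) : Set X))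
    (fun U => U.1.2) (fun x _ => by
      obtain ⟨U, hU, hx, -⟩ := X.isBasis_affineOpens.exists_subset_of_mem_open (Set.mem_univ x) isOpen_univ
      obtain ⟨U', hU', rfl⟩ := hU
      exact Set.mem_iUnion.2 ⟨⟨U', hU'⟩, hx⟩)
  obtain ⟨P, g, hP, hPf, hg⟩ := key t.toList
  refine ⟨P, g, hP, hPf, mono_of_app_injective g fun W => (injective_iff_map_eq_zero _).2 fun s hs => ?_⟩
  refine TopCat.Sheaf.eq_of_locally_eq' ⟨J.presheaf, J.isSheaf⟩ (fun U : t => W ⊓ (U.1 : X.Opens)) W
    (fun U => homOfLE inf_le_left) (fun x hx => ?_) _ _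
    (fun U => (hg U.1 (Finset.mem_toList.2 U.2) W s hs).trans (map_zero _).symm)
  obtain ⟨U, hU, hxU⟩ := Set.mem_iUnion₂.1 (ht (Set.mem_univ x))
  exact Opens.mem_iSup.2 ⟨⟨U, hU⟩, hx, hxU⟩

/-- Injective quasi-coherent modules on a Noetherian scheme are flasque. -/
theorem flasque_of_injective [IsNoetherian X]
    (J : ObjectProperty.FullSubcategory (fun M : X.Modules => Coh.IsQCoh M)) [Injective J] :
    Flasque J.obj := by
  haveI : Coh.IsQCoh J.obj := J.property
  obtain ⟨P, g, hP, hPf, hg⟩ := exists_flasque_embedding J.obj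
  let g' : J ⟶ ⟨P, hP⟩ := ObjectProperty.homMk g
  haveI : Mono g' := (ObjectProperty.ι (fun M : X.Modules => Coh.IsQCoh M)).mono_of_mono_map
    (f := g') hg
  intro V W h s
  obtain ⟨t, ht⟩ := hPf h (g.app V s)
  refine ⟨(Injective.factorThru (𝟙 J) g').hom.app W t, ?_⟩
  rw [← DCohLib.app_natural (Injective.factorThru (𝟙 J) g').hom h, ht]
  exact congr(($(Injective.comp_factorThru (𝟙 J) g')).hom.app V s)

end Groth.Agent.QcInjLib
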