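import Mathlib

/-!
# The sheaf associated with an injective module over a Noetherian ring is flasque
-/

set_option autoImplicit false

universe u

open CategoryTheory AlgebraicGeometry TopologicalSpace Opposite

namespace Groth.Agent.QcInjLib

section Algebra

variable {A : Type u} [CommRing A] [IsNoetherianRing A] {M : Type u} [AddCommGroup M] [Module A M]
  [Module.Injective A M]

/-- A compatible system of fractions with values in an injective module over a Noetherian ring comes
from an element, after raising the denominators to a common power. -/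
theorem exists_common {ι : Type*} [Finite ι] (a : ι → A) (y : ι → M)
    (h : ∀ i j, a j • y i = a i • y j) :
    ∃ (t : M) (n : ℕ), ∀ i, a i ^ n • y i = (a i ^ n * a i) • t := by
  let G : Submodule A (A × M) := Submodule.span A (Set.range fun i => (a i, y i))
  haveI : Module.Finite A G := Module.Finite.iff_fg.2 (Submodule.fg_span (Set.finite_range _))
  let J : Ideal A := Ideal.span (Set.range a)
  let T : Submodule A G := LinearMap.ker ((LinearMap.fst A A M).comp G.subtype)
  have hG : ∀ z ∈ G, ∀ j, a j • z.2 = z.1 • y j := by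
    intro z hz
    induction hz using Submodule.span_induction with
    | mem z hz =>
      obtain ⟨i, rfl⟩ := hz
      exact fun j => h i j
    | zero => intro j; simp
    | add z w _ _ h1 h2 => intro j; simp [smul_add, add_smul, h1 j, h2 j]
    | smul c z _ h1 => intro j; simp [smul_comm (a j) c, h1 j, smul_smul]
  have hT : J • T = ⊥ := by
    refine eq_bot_iff.2 (Submodule.smul_le.2 fun r hr z hz => ?_)
    rw [Submodule.mem_bot]
    induction hr using Submodule.span_induction with
    | mem r hr =>
      obtain ⟨j, rfl⟩ := hr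
      have h1 : (z : A × M).1 = 0 := hz
      have h2 := hG (z : A × M) z.2 j
      rw [h1, zero_smul] at h2
      exact Subtype.ext (Prod.ext (by simp [h1]) (by simpa using h2))
    | zero => simp
    | add r s _ _ h1 h2 => rw [add_smul, h1, h2, add_zero]
    | smul c r _ h1 => rw [smul_eq_mul, mul_smul, h1, smul_zero]
  obtain ⟨k, hk⟩ := Ideal.exists_pow_inf_eq_pow_smul J T
  let H : Submodule A G := J ^ (k + 1) • ⊤
  have hH : H ⊓ T = ⊥ := by
    rw [hk (k + 1) (by omega), Nat.add_sub_cancel_left, pow_one, eq_bot_iff, ← hT]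
    exact Submodule.smul_mono le_rfl inf_le_right
  let H₀ : Submodule A (A × M) := H.map G.subtype
  let f₁ : H₀ →ₗ[A] A := (LinearMap.fst A A M).comp H₀.subtype
  let g₁ : H₀ →ₗ[A] M := (LinearMap.snd A A M).comp H₀.subtype
  have hinj : Function.Injective f₁ := by
    refine (injective_iff_map_eq_zero f₁).2 fun x hx => ?_
    obtain ⟨z, hz, hzx⟩ := x.2
    have : z ∈ H ⊓ T := ⟨hz, show (z : A × M).1 = 0 from (congrArg Prod.fst hzx).trans hx⟩
    rw [hH, Submodule.mem_bot] at this
    subst this
    exact Subtype.ext hzx.symm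
  obtain ⟨φ, hφ⟩ := Module.Injective.out f₁ hinj g₁
  refine ⟨φ 1, k + 1, fun i => ?_⟩
  have hmem : a i ^ (k + 1) • (⟨(a i, y i), Submodule.subset_span ⟨i, rfl⟩⟩ : G) ∈ H :=
    Submodule.smul_mem_smul (Ideal.pow_mem_pow (Ideal.subset_span (Set.mem_range_self i)) _) trivial
  have e := hφ ⟨_, Submodule.mem_map_of_mem hmem⟩
  change φ (a i ^ (k + 1) • a i) = a i ^ (k + 1) • y i at e
  rw [← e, ← map_smul, smul_eq_mul, smul_eq_mul, mul_one]

end Algebra

variable {R : CommRingCat.{u}} [IsNoetherianRing R] (M : ModuleCat.{u} R) [Module.Injective R M]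

open PrimeSpectrum in
/-- Every section of the sheaf associated with an injective module extends to a global one. -/
theorem surjective_toOpen (U : (Spec R).Opens) :
    Function.Surjective (tilde.toOpen M U).hom := by
  classical
  intro s
  obtain ⟨U₀, hU₀⟩ := U
  let U : (Spec R).Opens := ⟨U₀, hU₀⟩
  obtain ⟨J, hJ⟩ := (PrimeSpectrum.isClosed_iff_zeroLocus_ideal (U₀ᶜ : Set (PrimeSpectrum R))).1 hU₀.isClosed_compl
  obtain ⟨t, ht⟩ := IsNoetherian.noetherian J
  have hU : ∀ p : PrimeSpectrum R, p ∈ U ↔ ∃ f : t, (f : R) ∉ p.asIdeal := by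
    intro p
    have : p ∈ (U₀ᶜ : Set (PrimeSpectrum R)) ↔ (J : Set R) ⊆ p.asIdeal := by rw [hJ]; rfl
    rw [← not_iff_not, not_exists]
    simp only [not_not, Subtype.forall]
    rw [← ht] at this
    exact this.trans Ideal.span_le
  have hle : ∀ f : t, PrimeSpectrum.basicOpen (f : R) ≤ U := fun f p hp => (hU p).2 ⟨f, hp⟩
  let F := modulesSpecToSheaf.obj (tilde M)
  let res : ∀ {V W : (Spec R).Opens}, W ≤ V → (F.presheaf.obj (op V) →ₗ[R] F.presheaf.obj (op W)) :=
    fun h => (F.presheaf.map (homOfLE h).op).hom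
  have hres : ∀ {V W : (Spec R).Opens} (h : W ≤ V) (m : M),
      res h ((tilde.toOpen M V).hom m) = (tilde.toOpen M W).hom m := fun h m => rfl
  have h1 : ∀ f : t, ∃ (n : ℕ) (x : M),
      (f : R) ^ n • res (hle f) s = (tilde.toOpen M (PrimeSpectrum.basicOpen (f : R))).hom x := by
    intro f
    obtain ⟨⟨x, ⟨_, n, rfl⟩⟩, hx⟩ := IsLocalizedModule.surj (.powers (f : R))
      (tilde.toOpen M (PrimeSpectrum.basicOpen (f : R))).hom (res (hle f) s)
    exact ⟨n, x, hx⟩
  choose n x hx using h1
  let N := Finset.univ.sup n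
  let x' : t → M := fun f => (f : R) ^ (N - n f) • x f
  have hx' : ∀ f : t, (f : R) ^ N • res (hle f) s =
      (tilde.toOpen M (PrimeSpectrum.basicOpen (f : R))).hom (x' f) := by
    intro f
    rw [map_smul, ← hx, smul_smul, ← pow_add,
      Nat.sub_add_cancel (Finset.le_sup (Finset.mem_univ f))]
  have h2 : ∀ f g : t, ∃ m : ℕ, ((f : R) * g) ^ m • ((g : R) ^ N • x' f) =
      ((f : R) * g) ^ m • ((f : R) ^ N • x' g) := by
    intro f g
    have l1 : PrimeSpectrum.basicOpen ((f : R) * g) ≤ PrimeSpectrum.basicOpen (f : R) :=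
      basicOpen_mul_le_left _ _
    have l2 : PrimeSpectrum.basicOpen ((f : R) * g) ≤ PrimeSpectrum.basicOpen (g : R) :=
      basicOpen_mul_le_right _ _
    have e : ∀ (f' : t) (l : PrimeSpectrum.basicOpen ((f : R) * g) ≤ PrimeSpectrum.basicOpen (f' : R)),
        (tilde.toOpen M (PrimeSpectrum.basicOpen ((f : R) * g))).hom (x' f') =
          (f' : R) ^ N • res (l.trans (hle f')) s := by
      intro f' l
      rw [← hres l, ← hx', map_smul]
      refine congrArg ((f' : R) ^ N • ·) ?_
      exact congr($((F.presheaf.map_comp (homOfLE (hle f')).op (homOfLE l).op)).hom s).symm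
    have e0 : (tilde.toOpen M (PrimeSpectrum.basicOpen ((f : R) * g))).hom ((g : R) ^ N • x' f) =
        (tilde.toOpen M (PrimeSpectrum.basicOpen ((f : R) * g))).hom ((f : R) ^ N • x' g) := by
      refine (map_smul _ _ _).trans ((congrArg _ (e f l1)).trans ?_)
      refine (smul_comm _ _ _).trans (((congrArg _ (e g l2)).symm).trans (map_smul _ _ _).symm)
    obtain ⟨⟨_, m, rfl⟩, hm⟩ := IsLocalizedModule.exists_of_eq (S := .powers ((f : R) * g)) e0
    exact ⟨m, hm⟩
  choose m hm using h2
  let L := Finset.univ.sup fun p : t × t => m p.1 p.2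
  let y : t → M := fun f => (f : R) ^ L • x' f
  have hy : ∀ i j : t, ((j : R) ^ (N + L)) • y i = ((i : R) ^ (N + L)) • y j := by
    intro i j
    have e1 : ((i : R) * j) ^ L • ((j : R) ^ N • x' i) = ((i : R) * j) ^ L • ((i : R) ^ N • x' j) := by
      have hl : m i j ≤ L := Finset.le_sup (f := fun p : t × t => m p.1 p.2) (Finset.mem_univ (i, j))
      obtain ⟨d, hd⟩ := Nat.exists_eq_add_of_le hl
      rw [hd, add_comm, pow_add, mul_smul, mul_smul, hm]
    simp only [smul_smul, y] at e1 ⊢
    refine Eq.trans ?_ (e1.trans ?_)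
    all_goals congr 1
    all_goals rw [mul_pow, pow_add]; ring
  obtain ⟨z, k, hz⟩ := exists_common (fun f : t => (f : R) ^ (N + L)) y hy
  refine ⟨z, ?_⟩
  refine TopCat.Sheaf.eq_of_locally_eq' F (fun f : t => PrimeSpectrum.basicOpen (f : R)) U
    (fun f => homOfLE (hle f)) (fun p hp => ?_) _ _ (fun f => ?_)
  · obtain ⟨f, hf⟩ := (hU p).1 hp
    exact Opens.mem_iSup.2 ⟨f, hf⟩
  · change res (hle f) ((tilde.toOpen M U).hom z) = res (hle f) s
    refine (hres (hle f) z).trans ?_
    apply (tilde M).isSMulRegular_of_le_basicOpen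
      (U := PrimeSpectrum.basicOpen (f : R)) (f := ((f : R) ^ (N + L)) ^ k * (f : R) ^ (N + L)) ?_
    · change (((f : R) ^ (N + L)) ^ k * (f : R) ^ (N + L)) • _ =
        (((f : R) ^ (N + L)) ^ k * (f : R) ^ (N + L)) • res (hle f) s
      refine ((map_smul _ _ _).symm.trans (congrArg _ (hz f).symm)).trans ?_
      refine (map_smul _ _ _).trans ?_
      rw [mul_smul, pow_add]
      refine congrArg _ ((map_smul _ _ _).trans ?_)
      refine (congrArg _ (hx' f).symm).trans ?_
      rw [smul_smul, mul_comm]
    · rw [← pow_mul, ← pow_add]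
      intro p hp
      exact fun h => hp (p.2.mem_of_pow_mem _ h)

/-- Restriction maps of the sheaf associated with an injective module are surjective. -/
theorem surjective_res {U V : (Spec R).Opens} (hUV : U ≤ V) :
    Function.Surjective ((tilde M).presheaf.map (homOfLE hUV).op) := by
  intro s
  obtain ⟨m, rfl⟩ := surjective_toOpen M U s
  exact ⟨(tilde.toOpen M V).hom m, rfl⟩

end Groth.Agent.QcInjLib
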